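import Cfsg.Agent.H380.RC.EStmt
import Cfsg.Agent.H380.RC.Point

/-!
# S3510, family E, box E14 (graph involutions, `q` even): vectors (helper195)

* `exists_fix` : a `T`-fixed vector can be averaged over the group generated by the `f j`, `j ≠ i₀`, without changing
  `h(v, v)`;
* `perp w` : `w^⊥`, `nDeg_perp`, `finrank_perp`, `stab_perp`.
-/

set_option autoImplicit false

namespace Cfsg.Agent.H195.RC

open Matrix Cfsg Cfsg.Agent.LieClassical.HermBasic Cfsg.Agent.LieClassical.HermSiegel
  Cfsg.Agent.LieClassical.HermGen Cfsg.Agent.LieClassical.SUBasic Cfsg.Agent.ClassicalGeometry.PSUAutBasic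
  Cfsg.Agent.ClassicalGeometry.PSUAutCount Cfsg.Agent.LieClassical.FieldTransfer Cfsg.Agent.ClassicalGeometry
open Cfsg.Agent.H380.RC

section field

variable {F : Type*} [Field F] [Fintype F] {q : ℕ}

theorem char_two (hF : Fintype.card F = q ^ 2) (hq : Even q) : CharP F 2 := by
  obtain ⟨p, k, hp, hchar, hk, hk0⟩ := exists_prime_pow hF
  have h1 : 2 ∣ p ^ k := by rw [← hk]; exact hq.two_dvd
  have h2 : p = 2 := ((Nat.prime_dvd_prime_iff_eq Nat.prime_two hp).1 (Nat.prime_two.dvd_of_dvd_pow h1)).symm
  rwa [← h2]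

theorem add_self (hF : Fintype.card F = q ^ 2) (hq : Even q) (a : F) : a + a = 0 := by
  have := char_two hF hq
  exact CharTwo.add_self_eq_zero a

theorem neg_eq (hF : Fintype.card F = q ^ 2) (hq : Even q) (a : F) : -a = a := by
  have := char_two hF hq
  exact CharTwo.neg_eq a

/-- norm one and fixed by `c ↦ c ^ q` -/
theorem eq_one_of (hF : Fintype.card F = q ^ 2) (hq : Even q) {c : F} (h1 : c * c ^ q = 1) (h2 : c ^ q = c) : c = 1 := by
  rw [h2] at h1
  have h3 : (c + 1) * (c + 1) = 0 := by
    have : (c + 1) * (c + 1) = c * c + (c + c) + 1 := by ring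
    rw [this, add_self hF hq, h1, add_zero, add_self hF hq]
  rcases mul_self_eq_zero.1 h3 with h4
  have h5 : c = -1 := eq_neg_of_add_eq_zero_left h4
  rw [h5, neg_eq hF hq]

end field

section lin

variable {G Ω : Type*} [Group G] [MulAction G Ω] {N : Subgroup G} {F : Type*} [Field F] [Fintype F] {n q : ℕ}
  {U : UEnv G Ω N F n q}

/-- linear lifts are isometries -/
theorem lin_iso {x : G} {f : (Fin n → F) → (Fin n → F)} (h : U.Lft x f) (hl : Lin f) (u v : Fin n → F) :
    hermForm n F q (f u) (f v) = hermForm n F q u v := by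
  obtain ⟨ρ, h1, h2⟩ := Ind.exists_rho h
  have hn := U.hn
  set e : Fin n → F := Pi.single ⟨0, by omega⟩ 1 with hedef
  have he : e ≠ 0 := by
    intro h3
    have h4 := congrFun h3 ⟨0, by omega⟩
    rw [hedef, Pi.single_eq_same] at h4
    exact one_ne_zero h4
  have hfe : f e ≠ 0 := by
    intro h3
    rw [← Ind.map_zero h] at h3
    exact he (Ind.injective h h3)
  have hρ : ∀ c, ρ c = c := by
    intro c
    have h3 := hl c e
    rw [h1] at h3
    have h4 : (ρ c - c) • f e = 0 := by rw [sub_smul, h3, sub_self]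
    exact sub_eq_zero.1 ((smul_eq_zero.1 h4).resolve_right hfe)
  rw [h2, hρ]

/-- a lift which is not linear is not a scalar on a nonzero subspace -/
theorem not_scalOn {x : G} {f : (Fin n → F) → (Fin n → F)} (h : U.Lft x f) (hl : ¬ Lin f) {A : Submodule F (Fin n → F)}
    {v : Fin n → F} (hv : v ∈ A) (hv0 : v ≠ 0) : ¬ ScalOn f A := by
  rintro ⟨c, hc⟩
  obtain ⟨ρ, h1, -⟩ := Ind.exists_rho h
  apply hl
  have hfv : f v ≠ 0 := by
    intro h3
    rw [← Ind.map_zero h] at h3
    exact hv0 (Ind.injective h h3)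
  have hρ : ∀ a, ρ a = a := by
    intro a
    have h3 := hc _ (A.smul_mem a hv)
    rw [h1, smul_comm c a v, ← hc v hv] at h3
    have h4 : (ρ a - a) • f v = 0 := by rw [sub_smul, h3, sub_self]
    exact sub_eq_zero.1 ((smul_eq_zero.1 h4).resolve_right hfv)
  intro a w
  rw [h1, hρ]

end lin

section gform

variable {G Ω : Type} [Group G] [MulAction G Ω] {N : Subgroup G} {F : Type} [Field F] [Fintype F] {n q : ℕ}
  {U : UEnv G Ω N F n q} {ι : Type} {x : ι → G} {f : ι → (Fin n → F) → (Fin n → F)} {r : ι → ℕ} {i₀ : ι}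
  {T : (Fin n → F) → (Fin n → F)}

theorem herm_T (hT : GForm U x f r i₀ T) (hq : Even q) (u v : Fin n → F) :
    hermForm n F q (T u) (T v) = (hermForm n F q u v) ^ q := by
  obtain ⟨ε, h1, h2⟩ := hT.herm
  have h3 : ε = 1 := by
    rcases h1 with h1 | h1
    · exact h1
    · rw [h1, neg_eq U.hF hq]
  rw [h2, h3, one_mul]

theorem T_zero (hT : GForm U x f r i₀ T) : T 0 = 0 := by
  have h1 := hT.smul 0 0
  rwa [smul_zero, zero_pow_q U.hF, zero_smul] at h1

/-- on the fixed points of `T` the form is symmetric -/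
theorem herm_fix (hT : GForm U x f r i₀ T) (hq : Even q) {u v : Fin n → F} (hu : T u = u) (hv : T v = v) :
    (hermForm n F q u v) ^ q = hermForm n F q u v := by
  rw [← herm_T hT hq, hu, hv]

theorem herm_fix_add (hT : GForm U x f r i₀ T) (hq : Even q) {u v : Fin n → F} (hu : T u = u) (hv : T v = v) :
    hermForm n F q (u + v) (u + v) = hermForm n F q u u + hermForm n F q v v := by
  rw [herm_add_left, herm_add_right U.hF, herm_add_right U.hF, herm_swap U.hF u v, herm_fix hT hq hu hv]
  have h1 := add_self U.hF hq (hermForm n F q u v)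
  linear_combination h1

theorem pow_comm {f g : (Fin n → F) → (Fin n → F)} (h : ∀ v, f (g v) = g (f v)) (k : ℕ) (v : Fin n → F) :
    f^[k] (g v) = g (f^[k] v) := by
  induction k with
  | zero => rfl
  | succ k ih => rw [Function.iterate_succ_apply', ih, h, Function.iterate_succ_apply']

/-- averaging over one element -/
theorem exists_fix_one (hT : GForm U x f r i₀ T) (hq : Even q) {j : ι} (hj : j ≠ i₀) {w : Fin n → F} (hw : T w = w) :
    ∃ w', T w' = w' ∧ hermForm n F q w' w' = hermForm n F q w w ∧ f j w' = w' ∧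
      (∀ k, f k w = w → f k w' = w') ∧ ∀ u, f j u = u → hermForm n F q w u = 0 → hermForm n F q w' u = 0 := by
  obtain ⟨a, ha⟩ := hT.fam.ord j
  have hr : Odd (r j ^ a) := by
    apply Odd.pow
    refine (hT.fam.pf.prime j).odd_of_ne_two fun h => hj ?_
    exact hT.fam.pf.inj (h.trans hT.r2.symm)
  set m := r j ^ a with hm
  have hadd := fun v w => Ind.map_add (hT.fam.lft j) v w
  have hiso := lin_iso (hT.fam.lft j) (hT.lin j hj)
  have hTf : ∀ k, T ((f j)^[k] w) = (f j)^[k] w := by
    intro k
    rw [← pow_comm (f := f j) (g := T) (hT.comm j hj), hw]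
  have hitiso : ∀ (k : ℕ) (u v : Fin n → F), hermForm n F q ((f j)^[k] u) ((f j)^[k] v) = hermForm n F q u v := by
    intro k
    induction k with
    | zero => intro u v; rfl
    | succ k ih => intro u v; rw [Function.iterate_succ_apply', Function.iterate_succ_apply', hiso, ih]
  let s : ℕ → (Fin n → F) := fun k => ∑ i ∈ Finset.range k, (f j)^[i] w
  have hs1 : ∀ k, s (k + 1) = s k + (f j)^[k] w := fun k => Finset.sum_range_succ _ _
  have hs0 : s 0 = 0 := rfl
  have hTs : ∀ k, T (s k) = s k := by
    intro k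
    induction k with
    | zero => rw [hs0, T_zero hT]
    | succ k ih => rw [hs1, hT.add, ih, hTf]
  have hh : ∀ k, hermForm n F q (s k) (s k) = (k : F) * hermForm n F q w w := by
    intro k
    induction k with
    | zero => rw [hs0, herm_zero_left, Nat.cast_zero, zero_mul]
    | succ k ih =>
      rw [hs1, herm_fix_add hT hq (hTs k) (hTf k), ih, hitiso]
      push_cast
      ring
  have hfs : ∀ k, f j (s k) = s k + (f j)^[k] w - w := by
    intro k
    induction k with
    | zero =>
      rw [hs0, Ind.map_zero (hT.fam.lft j)]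
      simp
    | succ k ih =>
      rw [hs1, hadd, ih, Function.iterate_succ_apply']
      abel
  have hcast : (m : F) = 1 := by
    have := char_two U.hF hq
    obtain ⟨b, hb⟩ := hr
    rw [hb]
    push_cast
    rw [CharTwo.two_eq_zero, zero_mul, zero_add]
  refine ⟨s m, hTs m, by rw [hh, hcast, one_mul], by rw [hfs, ha]; abel, fun k hk => ?_, fun u hu hu0 => ?_⟩
  · have h1 : ∀ i, f k (s i) = s i := by
      intro i
      induction i with
      | zero => rw [hs0, Ind.map_zero (hT.fam.lft k)]
      | succ i ih =>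
        rw [hs1, Ind.map_add (hT.fam.lft k), ih, ← pow_comm (f := f j) (g := f k) (fun v => hT.fam.comm j k v), hk]
    exact h1 m
  · have h1 : ∀ i, (f j)^[i] u = u := fun i => Function.iterate_fixed hu i
    have h2 : ∀ i, hermForm n F q (s i) u = 0 := by
      intro i
      induction i with
      | zero => rw [hs0, herm_zero_left]
      | succ i ih =>
        rw [hs1, herm_add_left, ih, zero_add, ← hu0]
        conv_lhs => rw [← h1 i]
        exact hitiso i w u
    exact h2 m

/-- averaging over all the `f j`, `j ≠ i₀` -/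
theorem exists_fix [Finite ι] (hT : GForm U x f r i₀ T) (hq : Even q) {w : Fin n → F} (hw : T w = w) :
    ∃ w', T w' = w' ∧ hermForm n F q w' w' = hermForm n F q w w ∧ (∀ j, j ≠ i₀ → f j w' = w') ∧
      ∀ u, (∀ j, j ≠ i₀ → f j u = u) → hermForm n F q w u = 0 → hermForm n F q w' u = 0 := by
  classical
  have := Fintype.ofFinite ι
  have key : ∀ J : Finset ι, (∀ j ∈ J, j ≠ i₀) →
      ∃ w', T w' = w' ∧ hermForm n F q w' w' = hermForm n F q w w ∧ (∀ j ∈ J, f j w' = w') ∧
      ∀ u, (∀ j, j ≠ i₀ → f j u = u) → hermForm n F q w u = 0 → hermForm n F q w' u = 0 := by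
    intro J
    induction J using Finset.induction_on with
    | empty => exact fun _ => ⟨w, hw, rfl, fun j hj => absurd hj (Finset.notMem_empty j), fun u _ h => h⟩
    | insert j J hj ih =>
      intro hJ
      obtain ⟨w₁, h1, h2, h3, h4⟩ := ih fun k hk => hJ k (Finset.mem_insert_of_mem hk)
      obtain ⟨w₂, k1, k2, k3, k4, k5⟩ := exists_fix_one hT hq (hJ j (Finset.mem_insert_self j J)) h1
      refine ⟨w₂, k1, k2.trans h2, fun k hk => ?_, fun u hu hu0 => ?_⟩
      · rcases Finset.mem_insert.1 hk with rfl | hk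
        · exact k3
        · exact k4 k (h3 k hk)
      · exact k5 u (hu j (hJ j (Finset.mem_insert_self j J))) (h4 u hu hu0)
  obtain ⟨w', h1, h2, h3, h4⟩ := key (Finset.univ.erase i₀) (fun j hj => (Finset.mem_erase.1 hj).1)
  exact ⟨w', h1, h2, fun j hj => h3 j (Finset.mem_erase.2 ⟨hj, Finset.mem_univ j⟩), h4⟩

end gform

section perp

variable {F : Type*} [Field F] [Fintype F] {n q : ℕ}

/-- product with `w` as a linear functional -/
def hfun (q : ℕ) (w : Fin n → F) : (Fin n → F) →ₗ[F] F where
  toFun v := hermForm n F q v w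
  map_add' v v' := herm_add_left v v' w
  map_smul' c v := herm_smul_left c v w

/-- `w^⊥` -/
def perp (q : ℕ) (w : Fin n → F) : Submodule F (Fin n → F) := LinearMap.ker (hfun q w)

theorem mem_perp {w v : Fin n → F} : v ∈ perp q w ↔ hermForm n F q v w = 0 := LinearMap.mem_ker

theorem nDeg_perp (hF : Fintype.card F = q ^ 2) {w : Fin n → F} (hw : hermForm n F q w w ≠ 0) : NDeg q (perp q w) := by
  intro v hv h
  rw [mem_perp] at hv
  by_contra hv0
  obtain ⟨z, hz⟩ := exists_herm_ne_zero hF hv0
  apply hz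
  have h1 : z - (hermForm n F q z w * (hermForm n F q w w)⁻¹) • w ∈ perp q w := by
    rw [mem_perp, herm_sub_left, herm_smul_left, mul_assoc, inv_mul_cancel₀ hw, mul_one, sub_self]
  have h2 := h _ h1
  rwa [herm_sub_right hF, herm_smul_right, hv, mul_zero, sub_zero] at h2

theorem perp_ne_top {w : Fin n → F} (hw : hermForm n F q w w ≠ 0) : perp q w ≠ ⊤ := by
  intro h
  have h1 : w ∈ perp q w := by rw [h]; trivial
  exact hw (mem_perp.1 h1)

theorem finrank_perp {w : Fin n → F} (hw : hermForm n F q w w ≠ 0) : Module.finrank F (perp q w) + 1 = n := by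
  have h1 := (hfun q w).finrank_range_add_finrank_ker
  have h2 : LinearMap.range (hfun q w) = ⊤ := by
    rw [LinearMap.range_eq_top]
    intro a
    refine ⟨(a * (hermForm n F q w w)⁻¹) • w, ?_⟩
    change hermForm n F q _ w = a
    rw [herm_smul_left, mul_assoc, inv_mul_cancel₀ hw, mul_one]
  rw [h2, finrank_top, Module.finrank_self, Module.finrank_fin_fun] at h1
  rw [add_comm]
  exact h1

end perp

end Cfsg.Agent.H195.RC
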