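import Mathlib

/-!
# Arithmetic for the mixed case of type iii (S3510)
-/

set_option autoImplicit false

namespace Cfsg.Agent.H195.RC.MixArith

theorem prime_dvd_mul_or {l a b : ℕ} (hl : l.Prime) (h : l ∣ a * b) : l ∣ a ∨ l ∣ b := (Nat.Prime.dvd_mul hl).1 h

/-- sign `+` -/
theorem three_plus {m : ℕ} (hm : 1 ≤ m) (h3 : 3 ∣ (m + 1) ^ 3 - 1) :
    ¬ 3 ^ padicValNat 3 ((m + 1) ^ 3 - 1) ∣ (m + 1) ^ 2 - 1 := by
  have hf : Fact (Nat.Prime 3) := ⟨Nat.prime_three⟩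
  have e1 : (m + 1) ^ 3 - 1 = m * (m ^ 2 + 3 * m + 3) := by
    have : (m + 1) ^ 3 = m * (m ^ 2 + 3 * m + 3) + 1 := by ring
    omega
  have e2 : (m + 1) ^ 2 - 1 = m * (m + 2) := by
    have : (m + 1) ^ 2 = m * (m + 2) + 1 := by ring
    omega
  intro hd
  rw [e1] at hd h3
  rw [e2] at hd
  have h3m : 3 ∣ m := by
    rcases prime_dvd_mul_or Nat.prime_three h3 with h | h
    · exact h
    · have h4 : 3 ∣ m ^ 2 := by
        have : m ^ 2 = (m ^ 2 + 3 * m + 3) - 3 * (m + 1) := by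
          have : 3 * (m + 1) ≤ m ^ 2 + 3 * m + 3 := by nlinarith
          omega
        rw [this]
        exact Nat.dvd_sub h (Dvd.intro _ rfl)
      exact Nat.prime_three.dvd_of_dvd_pow h4
  have hco : Nat.Coprime (3 ^ padicValNat 3 (m * (m ^ 2 + 3 * m + 3))) (m + 2) := by
    apply Nat.Coprime.pow_left
    rw [Nat.prime_three.coprime_iff_not_dvd]
    intro h
    omega
  have h5 := hco.dvd_of_dvd_mul_right hd
  have h6 : 3 ∣ m ^ 2 + 3 * m + 3 := by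
    obtain ⟨t, ht⟩ := h3m
    exact ⟨3 * t ^ 2 + 3 * t + 1, by rw [ht]; ring⟩
  have h7 := Nat.mul_dvd_mul h5 h6
  rw [← pow_succ] at h7
  exact pow_succ_padicValNat_not_dvd (by positivity) h7

/-- sign `-` -/
theorem three_minus {m : ℕ} (hm : 1 ≤ m) (h3 : 3 ∣ (m + 1) ^ 3 + 1) :
    ¬ 3 ^ padicValNat 3 ((m + 1) ^ 3 + 1) ∣ (m + 1) ^ 2 - 1 := by
  have hf : Fact (Nat.Prime 3) := ⟨Nat.prime_three⟩
  have e1 : (m + 1) ^ 3 + 1 = (m ^ 2 + m + 1) * (m + 2) := by ring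
  have e2 : (m + 1) ^ 2 - 1 = m * (m + 2) := by
    have : (m + 1) ^ 2 = m * (m + 2) + 1 := by ring
    omega
  intro hd
  rw [e1] at hd h3
  rw [e2] at hd
  have h3m : 3 ∣ m + 2 := by
    rcases prime_dvd_mul_or Nat.prime_three h3 with h | h
    · have hm3 : m % 3 = 0 ∨ m % 3 = 1 ∨ m % 3 = 2 := by omega
      have hd3 : m = 3 * (m / 3) + m % 3 := (Nat.div_add_mod m 3).symm
      generalize m / 3 = t at hd3
      rcases hm3 with h' | h' | h'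
      · exfalso
        rw [h', add_zero] at hd3
        have e : m ^ 2 + m + 1 = 3 * (3 * t ^ 2 + t) + 1 := by rw [hd3]; ring
        rw [e] at h
        omega
      · omega
      · exfalso
        rw [h'] at hd3
        have e : m ^ 2 + m + 1 = 3 * (3 * t ^ 2 + 5 * t + 2) + 1 := by rw [hd3]; ring
        rw [e] at h
        omega
    · exact h
  have hco : Nat.Coprime (3 ^ padicValNat 3 ((m ^ 2 + m + 1) * (m + 2))) m := by
    apply Nat.Coprime.pow_left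
    rw [Nat.prime_three.coprime_iff_not_dvd]
    intro h
    omega
  rw [mul_comm m] at hd
  have h5 := hco.dvd_of_dvd_mul_right hd
  have h6 : 3 ∣ m ^ 2 + m + 1 := by
    obtain ⟨t, ht⟩ := h3m
    have hmt : 1 ≤ t := by omega
    obtain ⟨t, rfl⟩ := Nat.exists_eq_add_of_le hmt
    have : m = 3 * t + 1 := by omega
    exact ⟨3 * t ^ 2 + 3 * t + 1, by rw [this]; ring⟩
  have h7 := Nat.mul_dvd_mul h5 h6
  rw [← pow_succ, mul_comm (m + 2)] at h7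
  exact pow_succ_padicValNat_not_dvd (by positivity) h7

theorem ndvd_plus {l m : ℕ} (hl : l.Prime) (hl3 : l ≠ 3) (h : l ∣ (m + 1) ^ 2 + (m + 1) + 1) :
    ¬ l ∣ (m + 1) ^ 2 - 1 := by
  have e2 : (m + 1) ^ 2 - 1 = m * (m + 2) := by
    have : (m + 1) ^ 2 = m * (m + 2) + 1 := by ring
    omega
  rw [e2]
  intro hd
  have e3 : (m + 1) ^ 2 + (m + 1) + 1 = m * (m + 3) + 3 := by ring
  have e4 : (m + 1) ^ 2 + (m + 1) + 1 = (m + 2) * (m + 1) + 1 := by ring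
  rcases prime_dvd_mul_or hl hd with h1 | h1
  · rw [e3] at h
    have h2 := (Nat.dvd_add_right (h1.mul_right (m + 3))).1 h
    exact hl3 ((Nat.prime_dvd_prime_iff_eq hl Nat.prime_three).1 h2)
  · rw [e4] at h
    have h2 := (Nat.dvd_add_right (h1.mul_right (m + 1))).1 h
    exact hl.one_lt.ne' (Nat.dvd_one.1 h2)

theorem sub_eq (m : ℕ) : (m + 1) ^ 2 - (m + 1) + 1 = m ^ 2 + m + 1 := by
  have : (m + 1) ^ 2 = (m ^ 2 + m) + (m + 1) := by ring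
  omega

theorem ndvd_minus {l m : ℕ} (hl : l.Prime) (hl3 : l ≠ 3) (h : l ∣ (m + 1) ^ 2 - (m + 1) + 1) :
    ¬ l ∣ (m + 1) ^ 2 - 1 := by
  have e2 : (m + 1) ^ 2 - 1 = m * (m + 2) := by
    have : (m + 1) ^ 2 = m * (m + 2) + 1 := by ring
    omega
  rw [e2]
  rw [sub_eq] at h
  intro hd
  rcases prime_dvd_mul_or hl hd with h1 | h1
  · have e3 : m ^ 2 + m + 1 = m * (m + 1) + 1 := by ring
    rw [e3] at h
    have h2 := (Nat.dvd_add_right (h1.mul_right (m + 1))).1 h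
    exact hl.one_lt.ne' (Nat.dvd_one.1 h2)
  · have e3 : m ^ 2 + m + 1 + (m + 2) = (m + 2) * m + 3 := by ring
    have h4 : l ∣ m ^ 2 + m + 1 + (m + 2) := Nat.dvd_add h h1
    rw [e3] at h4
    have h2 := (Nat.dvd_add_right (h1.mul_right m)).1 h4
    exact hl3 ((Nat.prime_dvd_prime_iff_eq hl Nat.prime_three).1 h2)

theorem dvd_cube_plus {l m : ℕ} (h : l ∣ (m + 1) ^ 2 + (m + 1) + 1) : l ∣ (m + 1) ^ 3 - 1 := by
  have e1 : (m + 1) ^ 3 - 1 = ((m + 1) ^ 2 + (m + 1) + 1) * m := by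
    have : (m + 1) ^ 3 = ((m + 1) ^ 2 + (m + 1) + 1) * m + 1 := by ring
    omega
  rw [e1]
  exact h.mul_right _

theorem dvd_cube_minus {l m : ℕ} (h : l ∣ (m + 1) ^ 2 - (m + 1) + 1) : l ∣ (m + 1) ^ 3 + 1 := by
  rw [sub_eq] at h
  have e1 : (m + 1) ^ 3 + 1 = (m ^ 2 + m + 1) * (m + 2) := by ring
  rw [e1]
  exact h.mul_right _

/-- an odd prime divisor -/
theorem exists_plus (m : ℕ) : ∃ l, l.Prime ∧ l ∣ (m + 1) ^ 2 + (m + 1) + 1 :=
  Nat.exists_prime_and_dvd (by nlinarith)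

theorem exists_minus {m : ℕ} (hm : 1 ≤ m) : ∃ l, l.Prime ∧ l ∣ (m + 1) ^ 2 - (m + 1) + 1 := by
  rw [sub_eq]
  exact Nat.exists_prime_and_dvd (by nlinarith)

theorem odd_plus (m : ℕ) : Odd ((m + 1) ^ 2 + (m + 1) + 1) := by
  have : (m + 1) ^ 2 + (m + 1) + 1 = (m + 1) * (m + 2) + 1 := by ring
  rw [this]
  exact (Nat.even_mul_succ_self (m + 1)).add_one

theorem odd_minus (m : ℕ) : Odd ((m + 1) ^ 2 - (m + 1) + 1) := by
  rw [sub_eq]
  have : m ^ 2 + m + 1 = m * (m + 1) + 1 := by ring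
  rw [this]
  exact (Nat.even_mul_succ_self m).add_one

theorem ne_two_of_odd {l n : ℕ} (hn : Odd n) (h : l ∣ n) : l ≠ 2 := by
  rintro rfl
  exact (Nat.not_even_iff_odd.2 hn) (even_iff_two_dvd.2 h)

/-- an odd prime divisor of `q0² + 1` -/
theorem exists_four {q0 : ℕ} (hq : 2 ≤ q0) : ∃ l, l.Prime ∧ l ≠ 2 ∧ l ∣ q0 ^ 2 + 1 := by
  rcases Nat.even_or_odd q0 with he | ho
  · obtain ⟨l, hl, hd⟩ := Nat.exists_prime_and_dvd (n := q0 ^ 2 + 1) (by nlinarith)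
    exact ⟨l, hl, ne_two_of_odd ((he.pow_of_ne_zero (by norm_num)).add_one) hd, hd⟩
  · obtain ⟨t, ht⟩ := ho
    have e1 : q0 ^ 2 + 1 = 2 * (2 * (t ^ 2 + t) + 1) := by rw [ht]; ring
    obtain ⟨l, hl, hd⟩ := Nat.exists_prime_and_dvd (n := 2 * (t ^ 2 + t) + 1) (by
      have : 1 ≤ t := by omega
      nlinarith)
    refine ⟨l, hl, ne_two_of_odd ⟨t ^ 2 + t, rfl⟩ hd, ?_⟩
    rw [e1]
    exact hd.mul_left 2

theorem four_dvd {l q0 : ℕ} (h : l ∣ q0 ^ 2 + 1) : l ∣ (q0 ^ 3) ^ 2 + 1 := by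
  have h1 : (((q0 ^ 2 + 1 : ℕ) : ℤ)) ∣ (((q0 ^ 3) ^ 2 + 1 : ℕ) : ℤ) := by
    push_cast
    exact ⟨(q0 : ℤ) ^ 4 - q0 ^ 2 + 1, by ring⟩
  exact h.trans (Int.natCast_dvd_natCast.1 h1)

theorem sq_sub_one {n N : ℕ} (h : n ∣ N - 1 ∨ n ∣ N + 1) (hN : 1 ≤ N) : n ∣ N ^ 2 - 1 := by
  obtain ⟨k, rfl⟩ := Nat.exists_eq_add_of_le hN
  have e1 : (1 + k) ^ 2 - 1 = k * (k + 2) := by
    have : (1 + k) ^ 2 = k * (k + 2) + 1 := by ring
    omega
  rw [e1]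
  rcases h with h | h
  · have : 1 + k - 1 = k := by omega
    rw [this] at h
    exact h.mul_right _
  · have : 1 + k + 1 = k + 2 := by omega
    rw [this] at h
    exact h.mul_left _

end Cfsg.Agent.H195.RC.MixArith
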