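import Cfsg.Agent.H195.RC.MixFrame
import Cfsg.Agent.H195.RC.TwLong
import Cfsg.Agent.H531.RC.Det
import Cfsg.Agent.H551.Tri.P2
import Cfsg.Agent.H890.SpParity
import Cfsg.Agent.H579.RC.MixLin

/-!
# S3510, triality of type iii: the mixed case, alternatives; characteristic two (helper195)
-/

set_option autoImplicit false
open Cfsg

namespace Cfsg.Agent.H195.RC.Mix

open Module QuadraticMap MulAction
open Cfsg.Agent.LieClassical.OrthCore Cfsg.Agent.LieClassical.OrthTrans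
open Cfsg.Agent.LieClassical.OrthSimple Cfsg.Agent.ClassicalGeometry.OrthSemi
open Cfsg.Agent.ClassicalGeometry.OrthAut1 Cfsg.Agent.H106.RC Cfsg.Agent.H93.RC Cfsg.Agent.H566.RC
open Cfsg.Agent.LieClassical.QuadForms Cfsg.Agent.ClassicalGeometry.TrialityOct
open Cfsg.Agent.ClassicalGeometry.Triality Cfsg.Agent.ClassicalGeometry.TrialitySpaces
open Cfsg.Agent.H198.TriBase Cfsg.Agent.H198.TriAut Cfsg.Agent.H206.Balance Cfsg.Agent.H198.TriDia
open Cfsg.Agent.H198.TwComp Cfsg.Agent.H198 Cfsg.Agent.H864.RC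

variable {F : Type} [Field F]

/-! ### the two alternatives have no fixed vectors -/

theorem nofix_sl {c : V8 F ≃ₗ[F] V8 F} {a b : F} (ha : a ≠ 0) (hb : b ≠ 0) (haa : a * a ≠ 1) (hbb : b * b ≠ 1)
    (hab : a ≠ b) (hab1 : a * b ≠ 1) (h1 : finrank F (Eg c a) = 3)
    (h2 : finrank F (Eg c a⁻¹) = 3) (h3 : finrank F (Eg c b) = 1) (h4 : finrank F (Eg c b⁻¹) = 1) :
    ∀ v, c v = v → v = 0 := by
  set f : V8 F →ₗ[F] V8 F := (c : V8 F →ₗ[F] V8 F) with hf
  have ind := Module.End.eigenspaces_iSupIndep f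
  have hle : ∀ {j t : F}, j ≠ t → Module.End.eigenspace f j ≤ ⨆ j, ⨆ (_ : j ≠ t), Module.End.eigenspace f j := fun {j t} hjt =>
    le_iSup₂_of_le j hjt le_rfl
  have hdis : ∀ {t : F} {S : Submodule F (V8 F)}, S ≤ ⨆ j, ⨆ (_ : j ≠ t), Module.End.eigenspace f j →
      Disjoint (Module.End.eigenspace f t) S := fun {t S} hS => (ind t).mono_right hS
  have hfr : ∀ {t : F} {S : Submodule F (V8 F)}, S ≤ ⨆ j, ⨆ (_ : j ≠ t), Module.End.eigenspace f j →
      finrank F ↥(Module.End.eigenspace f t ⊔ S) = finrank F (Module.End.eigenspace f t) + finrank F S := by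
    intro t S hS
    have h5 := Submodule.finrank_sup_add_finrank_inf_eq (Module.End.eigenspace f t) S
    rw [(hdis hS).eq_bot, finrank_bot, add_zero] at h5
    exact h5
  have n1 : a⁻¹ ≠ a := fun h0 => haa (by rw [← mul_inv_cancel₀ ha, h0])
  have n2 : a⁻¹ ≠ b := fun h0 => hab1 (by rw [← h0, mul_inv_cancel₀ ha])
  have n3 : b⁻¹ ≠ a := fun h0 => hab1 (by rw [← h0, inv_mul_cancel₀ hb])
  have n4 : a⁻¹ ≠ b⁻¹ := fun h0 => hab (inv_injective h0)
  have n5 : b⁻¹ ≠ b := fun h0 => hbb (by rw [← mul_inv_cancel₀ hb, h0])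
  have m1 : a ≠ 1 := fun h0 => haa (by rw [h0, one_mul])
  have m2 : b ≠ 1 := fun h0 => hbb (by rw [h0, one_mul])
  have m3 : a⁻¹ ≠ 1 := fun h0 => m1 (inv_eq_one.1 h0)
  have m4 : b⁻¹ ≠ 1 := fun h0 => m2 (inv_eq_one.1 h0)
  have k1 := hfr (t := a) (hle n1)
  have k2 := hfr (t := b) (S := Module.End.eigenspace f a ⊔ Module.End.eigenspace f a⁻¹) (sup_le (hle hab) (hle n2))
  have k3 := hfr (t := b⁻¹) (S := Module.End.eigenspace f b ⊔ (Module.End.eigenspace f a ⊔ Module.End.eigenspace f a⁻¹))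
    (sup_le (hle n5.symm) (sup_le (hle n3.symm) (hle n4)))
  have e1 : finrank F (Module.End.eigenspace f a) = 3 := h1
  have e2 : finrank F (Module.End.eigenspace f a⁻¹) = 3 := h2
  have e3 : finrank F (Module.End.eigenspace f b) = 1 := h3
  have e4 : finrank F (Module.End.eigenspace f b⁻¹) = 1 := h4
  rw [k2, k1, e1, e2, e3, e4] at k3
  have htop : Module.End.eigenspace f b⁻¹ ⊔ (Module.End.eigenspace f b ⊔ (Module.End.eigenspace f a ⊔ Module.End.eigenspace f a⁻¹)) = ⊤ := by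
    apply Submodule.eq_top_of_finrank_eq
    rw [k3]
    simp
  have hd1 := hdis (t := 1) (S := Module.End.eigenspace f b⁻¹ ⊔ (Module.End.eigenspace f b ⊔ (Module.End.eigenspace f a ⊔ Module.End.eigenspace f a⁻¹)))
    (sup_le (hle m4) (sup_le (hle m2) (sup_le (hle m1) (hle m3))))
  rw [htop, disjoint_top] at hd1
  intro v hv
  have hv1 : v ∈ Module.End.eigenspace f 1 := by
    rw [Module.End.mem_eigenspace_iff, one_smul]
    exact hv
  rw [hd1] at hv1
  exact hv1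

theorem nofix_su {c : V8 F ≃ₗ[F] V8 F} {W : Submodule F (V8 F)} {τ τ' : F}
    (hWn : ∀ v ∈ W, (∀ w ∈ W, polar (plusForm 4 F) v w = 0) → v = 0) (hne : τ ≠ τ')
    (h1 : ∀ v ∈ W, c (c v) + v = τ • c v)
    (h2 : ∀ v, (∀ w ∈ W, polar (plusForm 4 F) v w = 0) → c (c v) + v = τ' • c v)
    (h3 : ∀ v ∈ W, ∀ a : F, c v = a • v → v = 0)
    (h4 : ∀ v, (∀ w ∈ W, polar (plusForm 4 F) v w = 0) → ∀ a : F, c v = a • v → v = 0) :
    ∀ v, c v = v → v = 0 := by
  intro v hv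
  obtain ⟨w, hw, hp⟩ := Cfsg.Agent.H393.TZ.exists_proj hWn v
  set w' := v - w with hw'
  have e0 : v = w + w' := by rw [hw']; abel
  have e1 := h1 w hw
  have e2 := h2 w' hp
  -- `(c² - τ c + 1) v = (τ' - τ) c w'`
  have e3 : c (c v) + v - τ • c v = (τ' - τ) • c w' := by
    rw [e0, map_add, map_add, smul_add, sub_smul]
    calc c (c w) + c (c w') + (w + w') - (τ • c w + τ • c w')
        = (c (c w) + w - τ • c w) + (c (c w') + w') - τ • c w' := by abel
      _ = τ' • c w' - τ • c w' := by rw [e1, e2, sub_self, zero_add]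
  rw [hv, hv] at e3
  have hd : τ' - τ ≠ 0 := sub_ne_zero.2 hne.symm
  have e4 : c w' = ((τ' - τ)⁻¹ * (2 - τ)) • v := by
    have e5 : (2 - τ) • v = (τ' - τ) • c w' := by
      rw [← e3, sub_smul, two_smul]
    rw [mul_smul, e5, smul_smul, inv_mul_cancel₀ hd, one_smul]
  have e6 : w' = ((τ' - τ)⁻¹ * (2 - τ)) • v := by
    apply c.injective
    rw [map_smul, hv]
    exact e4
  have e7 : c w' = w' := by rw [e4, ← e6]
  have e8 : w' = 0 := h4 w' hp 1 (by rw [one_smul]; exact e7)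
  have e9 : v = w := by rw [e0, e8, add_zero]
  rw [e9]
  rw [e9] at hv
  exact h3 w hw 1 (by rw [one_smul]; exact hv)

/-! ### characteristic two -/

/-- `Q (u v - v) = 0` if some isometry without fixed vectors commutes with the involution `u` -/
theorem q_zero (h2 : (2 : F) = 0) {u c : V8 F ≃ₗ[F] V8 F} (hu : ∀ v, plusForm 4 F (u v) = plusForm 4 F v)
    (huu : ∀ v, u (u v) = v) (hc : ∀ v, plusForm 4 F (c v) = plusForm 4 F v) (huc : ∀ v, u (c v) = c (u v))
    (hf : ∀ v, c v = v → v = 0) (v : V8 F) : plusForm 4 F (u v - v) = 0 := by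
  have hpol : ∀ x y, polar (plusForm 4 F) (u x) (u y) = polar (plusForm 4 F) x y := by
    intro x y
    rw [QuadraticMap.polar, QuadraticMap.polar, ← map_add, hu, hu, hu]
  have hadd : ∀ x y, plusForm 4 F (u (x + y) - (x + y)) = plusForm 4 F (u x - x) + plusForm 4 F (u y - y) := by
    intro x y
    have e1 : u (x + y) - (x + y) = (u x - x) + (u y - y) := by rw [map_add]; abel
    rw [e1, Q_add]
    have e2 : polar (plusForm 4 F) (u x - x) (u y - y) = 0 := by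
      rw [polar_sub_left, polar_sub_right, polar_sub_right, hpol]
      have e3 : polar (plusForm 4 F) x (u y) = polar (plusForm 4 F) (u x) y := by
        rw [← hpol x (u y), huu]
      rw [e3]
      linear_combination (polar (plusForm 4 F) x y - polar (plusForm 4 F) (u x) y) * h2
    rw [e2, add_zero]
  have hcv : ∀ x, plusForm 4 F (u (c x) - c x) = plusForm 4 F (u x - x) := by
    intro x
    rw [huc, ← map_sub, hc]
  have hneg : ∀ x, plusForm 4 F (u (-x) - -x) = plusForm 4 F (u x - x) := by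
    intro x
    have e1 : u (-x) - -x = -(u x - x) := by rw [map_neg]; abel
    rw [e1, QuadraticMap.map_neg]
  obtain ⟨T, hT⟩ : ∃ T : V8 F →ₗ[F] V8 F, ∀ x, T x = c x - x :=
    ⟨(c : V8 F →ₗ[F] V8 F) - LinearMap.id, fun _ => rfl⟩
  have hinj : Function.Injective T := by
    rw [injective_iff_map_eq_zero]
    intro x hx
    rw [hT] at hx
    exact hf x (sub_eq_zero.1 hx)
  obtain ⟨w, hw⟩ := (LinearMap.injective_iff_surjective.1 hinj) v
  have hw' : v = c w + -w := by rw [← hw, ← sub_eq_add_neg, hT]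
  rw [hw', hadd, hcv, hneg]
  linear_combination (plusForm 4 F (u w - w)) * h2

section env
variable {G Ω ι : Type} [Group G] [MulAction G Ω] {N : Subgroup G} {hG : Good (plusForm 4 F)}
  {κ : P8 F →* G} {s : F ≃+* F} {x₁ : G} {x : ι → G} {r : ι → ℕ} {g : ι → (V8 F ≃ₗ[F] V8 F)}

/-- `mix_lin` for the whole family -/
theorem lin1 [Finite F] [Finite ι] {p : ℕ} [CharP F p] (h : T3 hG N κ s Ω x₁ x r g) (i₀ j₀ : ι)
    (hi : r i₀ = p) (hj : r j₀ ≠ p) (h2 : ∀ i, r i ≠ p → r i ≠ 2) : Lin1 g := by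
  have hp : p.Prime := by rw [← hi]; exact h.prime i₀
  have key := mix_lin (ι := {i // r i ≠ p}) hp hG (g := fun i => g i.1) (fun i => (h.mem i.1).1)
    (r := fun i => r i.1) (fun i => h.prime i.1) (fun i => i.2) (fun i => h2 i.1 i.2) (fun i => h.pow i.1)
    (fun i j => h.comm i.1 j.1) ⟨j₀, hj⟩ (h.ne1 j₀) (u := g i₀) (h.mem i₀).1 (by rw [← hi]; exact h.pow i₀)
    (h.ne1 i₀) (fun i => h.comm i₀ i.1)
  have hall : ∀ c : V8 F ≃ₗ[F] V8 F, (∀ i : {i // r i ≠ p}, c * g i.1 = g i.1 * c) → c * g i₀ = g i₀ * c →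
      ∀ i, c * g i = g i * c := by
    intro c h4 h5 i
    by_cases h6 : r i = p
    · rw [h.inj (h6.trans hi.symm)]; exact h5
    · exact h4 ⟨i, h6⟩
  rcases key with ⟨n0, hn0, hL⟩ | hL
  · refine Or.inl ⟨n0, hn0, fun n hn hodd => ?_⟩
    obtain ⟨c, hc, τ, W, hW0, hord, hcg, hcu, hrest⟩ := hL n hn hodd
    exact ⟨c, hc, τ, W, hW0, hord, hall c hcg hcu, hrest⟩
  · refine Or.inr fun l hl hl2 hd => ?_
    obtain ⟨c, hc, hcl, hc1, hcg, hcu⟩ := hL l hl hl2 hd
    exact ⟨c, hc, hcl, hc1, hall c hcg hcu⟩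

theorem exists_q0 [Finite F] (h : T3 hG N κ s Ω x₁ x r g) : ∃ q0, Nat.card F = q0 ^ 3 := by
  obtain ⟨p, k, n, -, -, -, hq, -, -⟩ := Cfsg.Agent.H393.TZ.numbers h.cube h.ne
  exact ⟨_, hq⟩

/-- a member of the family has order dividing `q0² + q0 + 1` or `q0² - q0 + 1`; hence the alternatives of `det_mult` -/
theorem alternatives [Finite F] [Finite G] [Finite ι] {p : ℕ} [CharP F p] (h : T3 hG N κ s Ω x₁ x r g)
    (hN : NoN Ω N) (i₀ j₀ : ι) (hi : r i₀ = p) (hj : r j₀ ≠ p) (h2 : ∀ i, r i ≠ p → r i ≠ 2) :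
    (finrank F (LinearMap.range ((g i₀ : V8 F →ₗ[F] V8 F) - LinearMap.id)) = 2 ∧
      ∀ v, plusForm 4 F (g i₀ v - v) = 0) ∨
    ∃ i, r i ≠ 2 ∧ (
    (∃ a b : F, a ≠ 0 ∧ b ≠ 0 ∧ a * a ≠ 1 ∧ b * b ≠ 1 ∧ a ≠ b ∧ a * b ≠ 1 ∧ finrank F (Eg (g i) a) = 3 ∧
      finrank F (Eg (g i) a⁻¹) = 3 ∧ finrank F (Eg (g i) b) = 1 ∧ finrank F (Eg (g i) b⁻¹) = 1) ∨
    (∃ (W : Submodule F (V8 F)) (τ τ' : F), finrank F W = 6 ∧
      (∀ v ∈ W, (∀ w ∈ W, polar (plusForm 4 F) v w = 0) → v = 0) ∧ τ ≠ τ' ∧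
      (∀ v ∈ W, g i (g i v) + v = τ • g i v) ∧
      (∀ v, (∀ w ∈ W, polar (plusForm 4 F) v w = 0) → g i (g i v) + v = τ' • g i v) ∧
      (∀ v ∈ W, ∀ a : F, g i v = a • v → v = 0) ∧
      (∀ v, (∀ w ∈ W, polar (plusForm 4 F) v w = 0) → ∀ a : F, g i v = a • v → v = 0))) := by
  have hp : p.Prime := by rw [← hi]; exact h.prime i₀
  obtain ⟨q0, hq⟩ := exists_q0 h
  have hq2 : 2 ≤ q0 := by
    have hcard : 1 < Nat.card F := Finite.one_lt_card
    by_contra hcon
    have : q0 = 0 ∨ q0 = 1 := by omega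
    rcases this with h0 | h0 <;> rw [hq, h0] at hcard <;> norm_num at hcard
  obtain ⟨i, hd⟩ := frame h hN hq (lin1 h i₀ j₀ hi hj h2)
  have hi2 : r i ≠ 2 := by
    obtain ⟨m, hm⟩ := Nat.exists_eq_add_of_le' (show 1 ≤ q0 by omega)
    rw [hm] at hd
    rcases hd with hd | hd
    · exact MixArith.ne_two_of_odd (MixArith.odd_plus m) hd
    · exact MixArith.ne_two_of_odd (MixArith.odd_minus m) hd
  rcases Cfsg.Agent.H531.RC.det_mult h.cube h.ne hq (h.mem i) (h.mem i₀) (h.prime i) (h.three i) hd (h.pow i)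
    (h.ne1 i) hp (by rw [← hi]; exact h.pow i₀) (h.ne1 i₀) (h.comm i₀ i) with h3 | h3
  · exact Or.inl h3
  · exact Or.inr ⟨i, hi2, h3⟩

/-- **MIXED, characteristic two** -/
theorem dead_mixed_two [Finite F] [Finite G] [Finite ι] [Nonempty Ω] [CharP F 2]
    (h : T3 hG N κ s Ω x₁ x r g) (hN : NoN Ω N) (i₀ j₀ : ι) (hi : r i₀ = 2)
    (hj : r j₀ ≠ 2) : False := by
  have h2 : (2 : F) = 0 := CharTwo.two_eq_zero
  have huu : ∀ v, g i₀ (g i₀ v) = v := by
    intro v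
    have := h.pow i₀
    rw [hi, pow_two] at this
    exact LinearEquiv.congr_fun this v
  have hiso : ∀ i v, plusForm 4 F (g i v) = plusForm 4 F v := fun i v => E_le_O (h.mem i).1 v
  have hcomm : ∀ i j v, g i (g j v) = g j (g i v) := fun i j v => LinearEquiv.congr_fun (h.comm i j) v
  have hs : ∀ v, plusForm 4 F (g i₀ v - v) = 0 := by
    rcases alternatives h hN i₀ j₀ hi hj (fun i hi' => hi') with ⟨-, h4⟩ | ⟨i, -, h3 | h3⟩
    · exact h4
    · obtain ⟨a, b, ha, hb, haa, hbb, hab, hab1, k1, k2, k3, k4⟩ := h3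
      exact q_zero h2 (hiso i₀) huu (hiso i) (hcomm i₀ i) (nofix_sl ha hb haa hbb hab hab1 k1 k2 k3 k4)
    · obtain ⟨W, τ, τ', hW, hWn, hτ, k1, k2, k3, k4⟩ := h3
      exact q_zero h2 (hiso i₀) huu (hiso i) (hcomm i₀ i) (nofix_su hWn hτ k1 k2 k3 k4)
  have hneg : ∀ v : V8 F, -v = v := by
    intro v
    have : (2 : F) • v = 0 := by rw [h2, zero_smul]
    rw [two_smul] at this
    exact (eq_neg_of_add_eq_zero_left this).symm
  have hN2 : ∀ v, g i₀ (g i₀ v - v) = g i₀ v - v := by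
    intro v
    rw [map_sub, huu, ← neg_sub, hneg]
  set f : V8 F →ₗ[F] V8 F := (g i₀ : V8 F →ₗ[F] V8 F) - LinearMap.id with hf
  have hfv : ∀ v, f v = g i₀ v - v := fun v => rfl
  have hrn := LinearMap.finrank_range_add_finrank_ker f
  have h8 : finrank F (V8 F) = 8 := by
    simp
  have hle : LinearMap.range f ≤ LinearMap.ker f := by
    rintro _ ⟨v, rfl⟩
    rw [LinearMap.mem_ker, hfv, hfv, hN2, sub_self]
  have hle' := Submodule.finrank_mono hle
  have hne : finrank F (LinearMap.range f) ≠ 0 := by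
    intro h0
    have h3 : LinearMap.range f = ⊥ := Submodule.finrank_eq_zero.1 h0
    apply h.ne1 i₀
    apply LinearEquiv.ext
    intro v
    have h4 : f v ∈ LinearMap.range f := ⟨v, rfl⟩
    rw [h3] at h4
    exact sub_eq_zero.1 h4
  have hpar : Even (finrank F (LinearMap.ker f) + finrank F (V8 F)) :=
    Cfsg.Agent.H890.SpParity.even_E hG.nondeg (h.mem i₀).1
  rw [h8] at hrn hpar
  have hcase : finrank F (LinearMap.range f) = 2 ∨ finrank F (LinearMap.range f) = 4 := by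
    rw [Nat.even_iff] at hpar
    omega
  rcases hcase with h3 | h3
  · exact dead_long h i₀ hi h3 hs
  · exact Cfsg.Agent.H551.Tri.p2 h.cube (h.mem i₀) hN2 hs h3

end env

end Cfsg.Agent.H195.RC.Mix
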