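import Cfsg.Agent.H198.TriCls

/-!
# S3510, triality of type iii: the twisted product `⋄ = dia (fG φ)`, `φ³ = 1` (helper195)

`a ↦ a ⋄ w` is `φ²`-semilinear, `w ↦ a ⋄ w` is `φ`-semilinear,
`(u ⋄ w) ⋄ u = φ(Q u) w`, `u ⋄ (w ⋄ u) = φ²(Q u) w`, `(u, w ⋄ z) = φ((u ⋄ w, z))` and the linearised identities.
-/

set_option autoImplicit false
set_option linter.unusedSectionVars false

namespace Cfsg.Agent.H195.RC

open Module QuadraticMap Cfsg.Agent.LieClassical.OrthCore Cfsg.Agent.LieClassical.OrthTrans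
  Cfsg.Agent.LieClassical.OrthSimple Cfsg.Agent.ClassicalGeometry.OrthAut1
  Cfsg.Agent.ClassicalGeometry.OrthSemi Cfsg.Agent.H198.Classes
  Cfsg.Agent.LieClassical.QuadForms Cfsg.Agent.H198.ClassesPlus
  Cfsg.Agent.ClassicalGeometry.TrialityOct Cfsg.Agent.ClassicalGeometry.Triality
  Cfsg.Agent.ClassicalGeometry.TrialitySpaces Cfsg.Agent.H198.TriBase Cfsg.Agent.H198.TriAut
  Cfsg.Agent.H198.TriDia Cfsg.Agent.H198.TriTC

universe u

variable {F : Type u} [Field F] {φ : F ≃+* F}

/-- the twisted product -/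
def tw (φ : F ≃+* F) (u w : V8 F) : V8 F := dia (fG φ) u w

/-- the coordinatewise action of `φ` -/
def cf (φ : F ≃+* F) (x : V8 F) : V8 F := fun i => φ (x i)

theorem cf_add (x y : V8 F) : cf φ (x + y) = cf φ x + cf φ y := by
  funext i; exact map_add φ _ _

theorem cf_smul (c : F) (x : V8 F) : cf φ (c • x) = φ c • cf φ x := by
  funext i; exact map_mul φ _ _

theorem cf_omul (x y : V8 F) : cf φ (omul x y) = omul (cf φ x) (cf φ y) := tri_fG φ x y

theorem cf_oconj (x : V8 F) : cf φ (oconj x) = oconj (cf φ x) := aut_oconj (tri_fG φ) x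

theorem cf_norm (x : V8 F) : plusForm 4 F (cf φ x) = φ (plusForm 4 F x) := by
  rw [norm8, norm8]
  simp only [cf, map_add, map_mul]

theorem cf_polar (x y : V8 F) : polar (plusForm 4 F) (cf φ x) (cf φ y) = φ (polar (plusForm 4 F) x y) := by
  simp only [QuadraticMap.polar, map_sub]
  rw [← cf_add, cf_norm, cf_norm, cf_norm]

theorem polar_oconj (x y : V8 F) : polar (plusForm 4 F) (oconj x) (oconj y) = polar (plusForm 4 F) x y := by
  simp only [QuadraticMap.polar]
  rw [← oconj_add, norm_oconj, norm_oconj, norm_oconj]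

section

variable (h : ∀ a : F, φ (φ (φ a)) = a)

include h

theorem cf3 (x : V8 F) : cf φ (cf φ (cf φ x)) = x := by
  funext i; exact h _

theorem symm_eq (a : F) : φ.symm a = φ (φ a) := by
  rw [RingEquiv.symm_apply_eq, h]

theorem tw_eq (u w : V8 F) : tw φ u w = omul (oconj (cf φ (cf φ u))) (oconj (cf φ w)) := by
  have e : (fG φ)⁻¹.1 (oconj u) = oconj (cf φ (cf φ u)) := by
    have h1 : ∀ x : V8 F, (fG φ)⁻¹.1 x = cf φ (cf φ x) := fun x => by
      funext i
      exact symm_eq h _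
    rw [h1, cf_oconj, cf_oconj]
  have e2 : (fG φ).1 (oconj w) = oconj (cf φ w) := cf_oconj w
  rw [tw, dia, e, e2]

theorem tw_add_left (u u' w : V8 F) : tw φ (u + u') w = tw φ u w + tw φ u' w := by
  rw [tw_eq h, tw_eq h, tw_eq h, cf_add, cf_add, oconj_add, add_omul]

theorem tw_add_right (u w w' : V8 F) : tw φ u (w + w') = tw φ u w + tw φ u w' := by
  rw [tw_eq h, tw_eq h, tw_eq h, cf_add, oconj_add, omul_add]

theorem tw_smul_left (c : F) (u w : V8 F) : tw φ (c • u) w = φ (φ c) • tw φ u w := by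
  rw [tw_eq h, tw_eq h, cf_smul, cf_smul, oconj_smul, smul_omul]

theorem tw_smul_right (c : F) (u w : V8 F) : tw φ u (c • w) = φ c • tw φ u w := by
  rw [tw_eq h, tw_eq h, cf_smul, oconj_smul, omul_smul]

theorem tw_zero_left (w : V8 F) : tw φ 0 w = 0 := by
  have := tw_smul_left h 0 0 w
  rwa [zero_smul, map_zero, map_zero, zero_smul] at this

theorem tw_zero_right (w : V8 F) : tw φ w 0 = 0 := by
  have := tw_smul_right h 0 w 0
  rwa [zero_smul, map_zero, zero_smul] at this

theorem tw_neg_left (u w : V8 F) : tw φ (-u) w = - tw φ u w := by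
  rw [eq_neg_iff_add_eq_zero, ← tw_add_left h, neg_add_cancel, tw_zero_left h]

theorem tw_neg_right (u w : V8 F) : tw φ u (-w) = - tw φ u w := by
  rw [eq_neg_iff_add_eq_zero, ← tw_add_right h, neg_add_cancel, tw_zero_right h]

theorem tw_sub_left (u u' w : V8 F) : tw φ (u - u') w = tw φ u w - tw φ u' w := by
  rw [sub_eq_add_neg, tw_add_left h, tw_neg_left h, ← sub_eq_add_neg]

theorem tw_sub_right (u w w' : V8 F) : tw φ u (w - w') = tw φ u w - tw φ u w' := by
  rw [sub_eq_add_neg, tw_add_right h, tw_neg_right h, ← sub_eq_add_neg]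

theorem tw_norm (u w : V8 F) :
    plusForm 4 F (tw φ u w) = φ (φ (plusForm 4 F u)) * φ (plusForm 4 F w) := by
  rw [tw_eq h, norm_omul, norm_oconj, norm_oconj, cf_norm, cf_norm, cf_norm]

/-- `(u ⋄ w) ⋄ u = φ(Q u) w` -/
theorem tw_tw (u w : V8 F) : tw φ (tw φ u w) u = φ (plusForm 4 F u) • w := by
  have e1 : oconj (cf φ (cf φ (tw φ u w))) = omul w (cf φ u) := by
    rw [tw_eq h, cf_omul, cf_omul, cf_oconj, cf_oconj, cf3 h, cf_oconj, cf_oconj, cf3 h, oconj_omul, oconj_oconj,
      oconj_oconj]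
  rw [tw_eq h (tw φ u w) u, e1, omul_omul_oconj, cf_norm]

/-- `u ⋄ (w ⋄ u) = φ²(Q u) w` -/
theorem tw_tw' (u w : V8 F) : tw φ u (tw φ w u) = φ (φ (plusForm 4 F u)) • w := by
  have e1 : oconj (cf φ (tw φ w u)) = omul (cf φ (cf φ u)) w := by
    rw [tw_eq h, cf_omul, cf_oconj, cf3 h, cf_oconj, oconj_omul, oconj_oconj, oconj_oconj]
  rw [tw_eq h u, e1, oconj_omul_omul, cf_norm, cf_norm]

omit h in
theorem norm_add (u z : V8 F) :
    plusForm 4 F (u + z) = plusForm 4 F u + plusForm 4 F z + polar (plusForm 4 F) u z := by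
  rw [QuadraticMap.polar]; ring

/-- linearised identities -/
theorem lin1 (u w z : V8 F) : tw φ (tw φ u w) z + tw φ (tw φ z w) u =
    φ (polar (plusForm 4 F) u z) • w := by
  have h1 := tw_tw h (u + z) w
  rw [tw_add_left h, tw_add_left h, tw_add_right h, tw_add_right h, tw_tw h, tw_tw h] at h1
  rw [norm_add, map_add, map_add, add_smul, add_smul] at h1
  have h3 : tw φ (tw φ u w) z + tw φ (tw φ z w) u =
      (φ (plusForm 4 F u) • w + tw φ (tw φ u w) z + (tw φ (tw φ z w) u + φ (plusForm 4 F z) • w)) -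
        (φ (plusForm 4 F u) • w + φ (plusForm 4 F z) • w) := by abel
  rw [h3, h1]
  abel

theorem lin2 (u w z : V8 F) : tw φ u (tw φ w z) + tw φ z (tw φ w u) =
    φ (φ (polar (plusForm 4 F) u z)) • w := by
  have h1 := tw_tw' h (u + z) w
  rw [tw_add_right h, tw_add_left h, tw_add_right h, tw_add_right h, tw_tw' h, tw_tw' h] at h1
  rw [norm_add, map_add, map_add, map_add, map_add, add_smul, add_smul] at h1
  have h3 : tw φ u (tw φ w z) + tw φ z (tw φ w u) =
      (φ (φ (plusForm 4 F u)) • w + tw φ u (tw φ w z) + (tw φ z (tw φ w u) + φ (φ (plusForm 4 F z)) • w)) -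
        (φ (φ (plusForm 4 F u)) • w + φ (φ (plusForm 4 F z)) • w) := by abel
  rw [h3, h1]
  abel

/-- the polar form is invariant up to `φ` -/
theorem tw_assoc (u w z : V8 F) :
    polar (plusForm 4 F) u (tw φ w z) = φ (polar (plusForm 4 F) (tw φ u w) z) := by
  have e1 : cf φ (cf φ (tw φ w z)) = omul (oconj (cf φ w)) (oconj z) := by
    rw [tw_eq h, cf_omul, cf_omul, cf_oconj, cf_oconj, cf3 h, cf_oconj, cf_oconj, cf3 h]
  have e2 : polar (plusForm 4 F) u (tw φ w z) =
      φ (polar (plusForm 4 F) (cf φ (cf φ u)) (cf φ (cf φ (tw φ w z)))) := by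
    rw [cf_polar, cf_polar, h]
  rw [e2, e1]
  congr 1
  rw [tw_eq h, polar_omul, oconj_oconj]
  rw [← polar_oconj, oconj_omul, oconj_oconj, oconj_oconj]

theorem tw_polar_left (u w w' : V8 F) : polar (plusForm 4 F) (tw φ u w) (tw φ u w') =
    φ (φ (plusForm 4 F u)) * φ (polar (plusForm 4 F) w w') := by
  have h1 := tw_norm h u (w + w')
  rw [tw_add_right h, norm_add, norm_add, tw_norm h, tw_norm h, map_add, map_add] at h1
  linear_combination h1

/-- the linearised norm -/
theorem tw_polar (u w u' w' : V8 F) : polar (plusForm 4 F) (tw φ u w) (tw φ u' w') +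
    polar (plusForm 4 F) (tw φ u w') (tw φ u' w) =
    φ (φ (polar (plusForm 4 F) u u')) * φ (polar (plusForm 4 F) w w') := by
  have k1 := tw_polar_left h (F := F)
  have h2 := k1 (u + u') w w'
  rw [tw_add_left h, tw_add_left h, polar_add_left, polar_add_right, polar_add_right, k1, k1, norm_add, map_add,
    map_add, map_add, map_add, polar_comm (plusForm 4 F) (tw φ u' w) (tw φ u w')] at h2
  linear_combination h2

end

end Cfsg.Agent.H195.RC
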