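import Cfsg.Agent.H195.RC.TwRoot

/-!
# S3510, triality of type iii: absolute points `e ⋄ e = 0` and the plane `Π = ker(e ⋄ ·) ∩ ker(· ⋄ e)` (helper195)
-/

set_option autoImplicit false
set_option linter.unusedSectionVars false

namespace Cfsg.Agent.H195.RC

open Module QuadraticMap Cfsg.Agent.LieClassical.OrthCore Cfsg.Agent.LieClassical.OrthTrans
  Cfsg.Agent.LieClassical.OrthSimple Cfsg.Agent.ClassicalGeometry.OrthAut1
  Cfsg.Agent.ClassicalGeometry.OrthSemi Cfsg.Agent.H198.Classes
  Cfsg.Agent.LieClassical.QuadForms Cfsg.Agent.H198.ClassesPlus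
  Cfsg.Agent.ClassicalGeometry.TrialityOct Cfsg.Agent.ClassicalGeometry.Triality
  Cfsg.Agent.ClassicalGeometry.TrialitySpaces Cfsg.Agent.H198.TriBase Cfsg.Agent.H198.TriAut
  Cfsg.Agent.H198.TriDia Cfsg.Agent.H198.TriTC Cfsg.Agent.H106.RC Cfsg.Agent.H93.RC Cfsg.Agent.H566.RC

universe u

variable {F : Type u} [Field F] {φ : F ≃+* F}

/-- the plane of an absolute point -/
structure InP (φ : F ≃+* F) (e y : V8 F) : Prop where
  left : tw φ e y = 0
  right : tw φ y e = 0

section

variable (h : ∀ a : F, φ (φ (φ a)) = a)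

include h

/-- `z ⋄ e = 0`, `e ≠ 0`: `z` is singular -/
theorem norm_of_right {e z : V8 F} (he : e ≠ 0) (hz : tw φ z e = 0) : plusForm 4 F z = 0 := by
  have := tw_tw h z e
  rw [hz, tw_zero_left h] at this
  exact (map_eq_zero φ).1 ((smul_eq_zero.1 this.symm).resolve_right he)

theorem norm_of_left {e z : V8 F} (he : e ≠ 0) (hz : tw φ e z = 0) : plusForm 4 F z = 0 := by
  have := tw_tw' h z e
  rw [hz, tw_zero_right h] at this
  have h1 := (smul_eq_zero.1 this.symm).resolve_right he
  exact (map_eq_zero φ).1 ((map_eq_zero φ).1 h1)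

theorem polar_of_right {e y z : V8 F} (he : e ≠ 0) (hy : tw φ y e = 0) (hz : tw φ z e = 0) :
    polar (plusForm 4 F) y z = 0 := by
  rw [QuadraticMap.polar, norm_of_right h he hy, norm_of_right h he hz,
    norm_of_right h he (z := y + z) (by rw [tw_add_left h, hy, hz, add_zero])]
  simp

theorem norm_of_abs {e : V8 F} (hee : tw φ e e = 0) : plusForm 4 F e = 0 := by
  have := tw_norm h e e
  rw [hee, QuadraticMap.map_zero] at this
  rcases mul_eq_zero.1 this.symm with h1 | h1
  · exact (map_eq_zero φ).1 ((map_eq_zero φ).1 h1)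
  · exact (map_eq_zero φ).1 h1

theorem InP.polar {e y : V8 F} (he : e ≠ 0) (hee : tw φ e e = 0) (hy : InP φ e y) :
    QuadraticMap.polar (plusForm 4 F) e y = 0 := polar_of_right h he hee hy.right

theorem InP.norm {e y : V8 F} (he : e ≠ 0) (hy : InP φ e y) : plusForm 4 F y = 0 := norm_of_right h he hy.right

theorem InP.add {e y z : V8 F} (hy : InP φ e y) (hz : InP φ e z) : InP φ e (y + z) :=
  ⟨by rw [tw_add_right h, hy.left, hz.left, add_zero], by rw [tw_add_left h, hy.right, hz.right, add_zero]⟩

theorem InP.smul {e y : V8 F} (hy : InP φ e y) (c : F) : InP φ e (c • y) :=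
  ⟨by rw [tw_smul_right h, hy.left, smul_zero], by rw [tw_smul_left h, hy.right, smul_zero]⟩

omit h in
theorem fin_span_le (v : V8 F) : finrank F (Submodule.span F {v}) ≤ 1 := by
  by_cases hv : v = 0
  · rw [hv, Submodule.span_zero_singleton, finrank_bot]; exact Nat.zero_le _
  · rw [finrank_span_singleton hv]

/-- `z ⋄ e ∈ Π` for `z ⟂ e` -/
theorem inP_right {e z : V8 F} (hee : tw φ e e = 0) (hz : QuadraticMap.polar (plusForm 4 F) e z = 0) :
    InP φ e (tw φ z e) := by
  refine ⟨by rw [tw_tw' h, norm_of_abs h hee, map_zero, map_zero, zero_smul], ?_⟩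
  have := lin1 h z e e
  rw [hee, tw_zero_left h, add_zero, polar_comm, hz, map_zero, zero_smul] at this
  exact this

theorem inP_left {e z : V8 F} (hee : tw φ e e = 0) (hz : QuadraticMap.polar (plusForm 4 F) e z = 0) :
    InP φ e (tw φ e z) := by
  refine ⟨?_, by rw [tw_tw h, norm_of_abs h hee, map_zero, zero_smul]⟩
  have := lin2 h e e z
  rw [hee, tw_zero_right h, add_zero, hz, map_zero, map_zero, zero_smul] at this
  exact this

omit h in
/-- a vector with `(e, f) = 1` -/
theorem exists_f {e : V8 F} (he : e ≠ 0) : ∃ f : V8 F, QuadraticMap.polar (plusForm 4 F) e f = 1 := by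
  by_contra hcon
  push Not at hcon
  apply he
  apply ClassicalGeometry.Triality.nondeg8
  intro y
  by_contra hy
  apply hcon ((QuadraticMap.polar (plusForm 4 F) e y)⁻¹ • y)
  rw [polar_smul_right, smul_eq_mul, inv_mul_cancel₀ hy]

omit h in
/-- the double perpendicular of a point -/
theorem mem_of_perp {e v : V8 F} (he : e ≠ 0)
    (hv : ∀ u, QuadraticMap.polar (plusForm 4 F) e u = 0 → QuadraticMap.polar (plusForm 4 F) u v = 0) :
    ∃ t : F, v = t • e := by
  obtain ⟨f, hf⟩ := exists_f he
  refine ⟨QuadraticMap.polar (plusForm 4 F) f v, ?_⟩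
  rw [← sub_eq_zero]
  apply ClassicalGeometry.Triality.nondeg8
  intro x
  have h1 := hv (x - QuadraticMap.polar (plusForm 4 F) e x • f) (by
    rw [polar_sub_right, polar_smul_right, hf, smul_eq_mul, mul_one, sub_self])
  rw [polar_sub_left, polar_smul_left] at h1
  rw [polar_sub_left, polar_smul_left, polar_comm _ v x]
  simp only [smul_eq_mul] at h1 ⊢
  linear_combination h1

/-- `Π ⋄ Π ⊆ F e` -/
theorem inP_mul {e y z : V8 F} (he : e ≠ 0) (hy : InP φ e y) (hz : InP φ e z) :
    ∃ t : F, tw φ y z = t • e := by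
  apply mem_of_perp he
  intro u hu
  rw [tw_assoc h]
  have h1 : tw φ (tw φ u y) e = 0 := by
    have := lin1 h u y e
    rw [hy.left, tw_zero_left h, add_zero, polar_comm, hu, map_zero, zero_smul] at this
    exact this
  rw [polar_of_right h he h1 hz.right, map_zero]

/-- the plane is larger than `F e` -/
theorem exists_inP {e : V8 F} (he : e ≠ 0) (hee : tw φ e e = 0) : ∃ y, InP φ e y ∧ ∀ t : F, y ≠ t • e := by
  by_contra hcon
  push Not at hcon
  let T : V8 F →ₗ[F] V8 F :=
    { toFun := fun z => cf φ (tw φ z e)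
      map_add' := fun a b => by rw [tw_add_left h, cf_add]
      map_smul' := fun c a => by rw [tw_smul_left h, cf_smul, h]; rfl }
  have hTa : ∀ z, T z = cf φ (tw φ z e) := fun _ => rfl
  let P : Submodule F (V8 F) := LinearMap.ker (polarBilin (plusForm 4 F) e)
  have hP : ∀ z, z ∈ P ↔ QuadraticMap.polar (plusForm 4 F) e z = 0 := fun z => Iff.rfl
  have h8 : finrank F (V8 F) = 8 := by
    rw [Module.finrank_pi, Fintype.card_sum, Fintype.card_fin]
  have hP7 : 7 ≤ finrank F P := by
    have h1 := LinearMap.finrank_range_add_finrank_ker (polarBilin (plusForm 4 F) e)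
    have h2 : finrank F (LinearMap.range (polarBilin (plusForm 4 F) e)) ≤ 1 := by
      have := Submodule.finrank_le (LinearMap.range (polarBilin (plusForm 4 F) e))
      rwa [Module.finrank_self] at this
    rw [h8] at h1
    change 7 ≤ finrank F (LinearMap.ker (polarBilin (plusForm 4 F) e))
    omega
  have h1 := LinearMap.finrank_range_add_finrank_ker (T.domRestrict P)
  have h2 : finrank F (LinearMap.range (T.domRestrict P)) ≤ 1 := by
    have h3 : LinearMap.range (T.domRestrict P) ≤ Submodule.span F {cf φ e} := by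
      rintro _ ⟨⟨z, hz⟩, rfl⟩
      obtain ⟨t, ht⟩ := hcon _ (inP_right h hee ((hP z).1 hz))
      change T z ∈ _
      rw [hTa, ht, cf_smul]
      exact Submodule.smul_mem _ _ (Submodule.mem_span_singleton_self _)
    exact (Submodule.finrank_mono h3).trans (fin_span_le _)
  have h3 : finrank F (LinearMap.ker (T.domRestrict P)) ≤ 4 := by
    have h4 : ∀ z ∈ (LinearMap.ker (T.domRestrict P)).map P.subtype, plusForm 4 F z = 0 := by
      rintro _ ⟨⟨z, hz⟩, hz', rfl⟩
      have h5 : cf φ (tw φ z e) = 0 := hz'
      have h6 : tw φ z e = 0 := by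
        have := congrArg (cf φ) (congrArg (cf φ) h5)
        rw [cf3 h] at this
        rw [this]
        funext i
        change φ (φ 0) = 0
        rw [map_zero, map_zero]
      exact norm_of_right h he h6
    have h5 := finrank_le_four h4
    have e7 := LinearEquiv.finrank_eq (Submodule.equivMapOfInjective P.subtype P.subtype_injective
      (LinearMap.ker (T.domRestrict P)))
    rwa [← e7] at h5
  omega

/-- **`1 + R_{e,y}` is a Siegel element for `y ∈ Π`** -/
theorem Rw_siegel {e y f : V8 F} (he : e ≠ 0) (hee : tw φ e e = 0) (hy : InP φ e y)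
    (hf : QuadraticMap.polar (plusForm 4 F) e f = 1) (x : V8 F) :
    Rw φ e y x = QuadraticMap.polar (plusForm 4 F) e x • Rw φ e y f -
      QuadraticMap.polar (plusForm 4 F) (Rw φ e y f) x • e := by
  have hey := hy.polar h he hee
  have hQe := norm_of_abs h hee
  -- isometry
  have iso : ∀ u v, QuadraticMap.polar (plusForm 4 F) (u + Rw φ e y u) (v + Rw φ e y v) =
      QuadraticMap.polar (plusForm 4 F) u v := by
    intro u v
    have k : ∀ u, plusForm 4 F (u + Rw φ e y u) = plusForm 4 F u := by
      intro u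
      rw [norm_add, Rw_norm h hQe, Rw_polar h hey]; ring
    have e1 : (u + Rw φ e y u) + (v + Rw φ e y v) = (u + v) + Rw φ e y (u + v) := by
      rw [Rw_add h]; abel
    rw [QuadraticMap.polar, QuadraticMap.polar, e1, k, k, k]
  have hRe : Rw φ e y e = 0 := by
    unfold Rw; rw [hee, tw_zero_left h]
  set y' := Rw φ e y f with hy'
  have hy'e : QuadraticMap.polar (plusForm 4 F) e y' = 0 := by
    have := iso e f
    rw [hRe, add_zero, polar_add_right] at this
    linear_combination this
  -- on the perpendicular space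
  have key : ∀ x, QuadraticMap.polar (plusForm 4 F) e x = 0 →
      Rw φ e y x = -(QuadraticMap.polar (plusForm 4 F) y' x) • e := by
    intro x hx
    obtain ⟨t, ht⟩ := inP_mul h he (inP_left h hee hx) hy
    have ht' : Rw φ e y x = t • e := ht
    have := iso f x
    rw [ht', ← hy', polar_add_left, polar_add_right, polar_add_right, polar_smul_right, polar_smul_right,
      polar_comm _ f e, hf, polar_comm _ y' e, hy'e] at this
    rw [ht']
    congr 1
    simp only [smul_eq_mul] at this
    linear_combination this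
  have h1 := key (x - QuadraticMap.polar (plusForm 4 F) e x • f) (by
    rw [polar_sub_right, polar_smul_right, hf, smul_eq_mul, mul_one, sub_self])
  have h2 : Rw φ e y (x - QuadraticMap.polar (plusForm 4 F) e x • f) =
      Rw φ e y x - QuadraticMap.polar (plusForm 4 F) e x • y' := by
    have h3 := Rw_add h (a := e) (b := y) (x - QuadraticMap.polar (plusForm 4 F) e x • f)
      (QuadraticMap.polar (plusForm 4 F) e x • f)
    rw [sub_add_cancel, Rw_smul h] at h3
    rw [h3]; abel
  have h4 : QuadraticMap.polar (plusForm 4 F) y' f = 0 := by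
    rw [polar_comm]; exact Rw_polar h hey f
  rw [h2, polar_sub_right, polar_smul_right, h4, smul_zero, sub_zero] at h1
  rw [sub_eq_iff_eq_add] at h1
  rw [h1]
  module

theorem Rw_inP {e y f : V8 F} (hee : tw φ e e = 0) (hy : InP φ e y) (hey : QuadraticMap.polar (plusForm 4 F) e y = 0) :
    InP φ e (Rw φ e y f) := by
  have hQe := norm_of_abs h hee
  constructor
  · rw [Rw_anti h hey]
    unfold Rw
    rw [tw_neg_right h, tw_tw' h, hQe]
    simp
  · unfold Rw
    have h1 := lin1 h (tw φ e f) y e
    have h2 : QuadraticMap.polar (plusForm 4 F) (tw φ e f) e = 0 := by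
      rw [polar_comm, tw_assoc h, hee, polar_zero_left, map_zero]
    rw [hy.left, tw_zero_left h, add_zero, h2, map_zero, zero_smul] at h1
    exact h1

end

end Cfsg.Agent.H195.RC
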