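import Cfsg.Agent.H195.RC.TwPlane

/-!
# S3510, triality of type iii: unipotent automorphisms of the twisted product (helper195)

A unipotent automorphism `g ≠ 1` of `⋄` fixes an absolute point `e` and a vector of `Π / F e`.
-/

set_option autoImplicit false
set_option linter.unusedSectionVars false

namespace Cfsg.Agent.H195.RC

open Module QuadraticMap Cfsg.Agent.LieClassical.OrthCore Cfsg.Agent.LieClassical.OrthTrans
  Cfsg.Agent.LieClassical.OrthSimple Cfsg.Agent.ClassicalGeometry.OrthAut1
  Cfsg.Agent.ClassicalGeometry.OrthSemi Cfsg.Agent.H198.Classes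
  Cfsg.Agent.LieClassical.QuadForms Cfsg.Agent.H198.ClassesPlus
  Cfsg.Agent.ClassicalGeometry.TrialityOct Cfsg.Agent.ClassicalGeometry.Triality
  Cfsg.Agent.ClassicalGeometry.TrialitySpaces Cfsg.Agent.H198.TriBase Cfsg.Agent.H198.TriAut
  Cfsg.Agent.H198.TriDia Cfsg.Agent.H198.TriTC Cfsg.Agent.H106.RC Cfsg.Agent.H93.RC Cfsg.Agent.H566.RC

universe u

variable {F : Type u} [Field F] {φ : F ≃+* F}

/-- isometries of `V8 F` which are automorphisms of the twisted product -/
structure Au3 (φ : F ≃+* F) (g : V8 F ≃ₗ[F] V8 F) : Prop where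
  iso : ∀ v, plusForm 4 F (g v) = plusForm 4 F v
  mul : ∀ u w, g (tw φ u w) = tw φ (g u) (g w)

theorem Au3.polar {g : V8 F ≃ₗ[F] V8 F} (k : Au3 φ g) (u v : V8 F) :
    QuadraticMap.polar (plusForm 4 F) (g u) (g v) = QuadraticMap.polar (plusForm 4 F) u v := by
  rw [QuadraticMap.polar, QuadraticMap.polar, ← map_add, k.iso, k.iso, k.iso]

/-- `g - 1` -/
def Nn (g : V8 F ≃ₗ[F] V8 F) : V8 F →ₗ[F] V8 F := (g : V8 F →ₗ[F] V8 F) - LinearMap.id

theorem Nn_apply (g : V8 F ≃ₗ[F] V8 F) (v : V8 F) : Nn g v = g v - v := rfl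

theorem Nn_pow {p : ℕ} [hp : Fact p.Prime] [CharP F p] {g : V8 F ≃ₗ[F] V8 F} (hg : g ^ p = 1) : Nn g ^ p = 0 := by
  have hnt : Nontrivial (V8 F) := inferInstance
  have hch : CharP (Module.End F (V8 F)) p :=
    charP_of_injective_algebraMap (FaithfulSMul.algebraMap_injective F (Module.End F (V8 F))) p
  have e : ((g : V8 F →ₗ[F] V8 F) : Module.End F (V8 F)) ^ p = 1 := by
    have h1 : ∀ (n : ℕ) (v : V8 F), (((g : V8 F →ₗ[F] V8 F) : Module.End F (V8 F)) ^ n) v = (g ^ n) v := by
      intro n
      induction n with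
      | zero => intro v; rfl
      | succ n ih =>
        intro v
        rw [pow_succ, Module.End.mul_apply, pow_succ, LinearEquiv.mul_apply, ← ih]
        rfl
    refine LinearMap.ext fun v => ?_
    rw [h1, hg]; rfl
  have h2 : Nn g = ((g : V8 F →ₗ[F] V8 F) : Module.End F (V8 F)) - 1 := rfl
  rw [h2, sub_pow_char_of_commute p (Commute.one_right _), e, one_pow, sub_self]

section

variable {g : V8 F ≃ₗ[F] V8 F} (k : Au3 φ g)

include k

/-- fixed vectors are orthogonal to `[V, g]` -/
theorem Au3.orth {v z : V8 F} (hv : g v = v) : QuadraticMap.polar (plusForm 4 F) v (Nn g z) = 0 := by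
  rw [Nn_apply, polar_sub_right]
  nth_rewrite 1 [← hv]
  rw [k.polar, sub_self]

variable (h : ∀ a : F, φ (φ (φ a)) = a)

include h

/-- a fixed absolute point from a fixed singular vector of `[V, g]` -/
theorem Au3.exists_e_of {v z : V8 F} (hv0 : v ≠ 0) (hQ : plusForm 4 F v = 0) (hv : g v = v) (hz : v = Nn g z) :
    ∃ e, e ≠ 0 ∧ tw φ e e = 0 ∧ g e = e := by
  by_cases hvv : tw φ v v = 0
  · exact ⟨v, hv0, hvv, hv⟩
  · have hf : g (tw φ v v) = tw φ v v := by rw [k.mul, hv]
    refine ⟨tw φ v v, hvv, ?_, hf⟩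
    have h1 := lin1 h v v (tw φ v v)
    have h2 : QuadraticMap.polar (plusForm 4 F) v (tw φ v v) = 0 := by
      rw [polar_comm]
      nth_rewrite 3 [hz]
      exact k.orth hf
    rw [tw_tw h, hQ, map_zero, zero_smul, tw_zero_left h, add_zero, h2, map_zero, zero_smul] at h1
    exact h1

/-- **a unipotent automorphism fixes an absolute point** -/
theorem Au3.exists_e [Finite F] {p : ℕ} [hp : Fact p.Prime] [CharP F p] (hg : g ^ p = 1) (hg1 : g ≠ 1) :
    ∃ e, e ≠ 0 ∧ tw φ e e = 0 ∧ g e = e := by
  have hN0 : Nn g ≠ 0 := by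
    intro h0
    apply hg1
    ext1 v
    have := LinearMap.congr_fun h0 v
    rw [Nn_apply] at this
    exact sub_eq_zero.1 this
  have hNp := Nn_pow (g := g) (p := p) hg
  by_cases hp2 : p = 2
  · subst hp2
    have hNN : ∀ z, g (Nn g z) = Nn g z := by
      intro z
      have := LinearMap.congr_fun hNp z
      rw [pow_two, Module.End.mul_apply] at this
      exact sub_eq_zero.1 this
    obtain ⟨z, hz⟩ : ∃ z, Nn g z ≠ 0 := by
      by_contra hcon
      push Not at hcon
      exact hN0 (LinearMap.ext hcon)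
    by_cases hQ : plusForm 4 F (Nn g z) = 0
    · exact k.exists_e_of h hz hQ (hNN z) rfl
    -- a second vector
    by_cases hrk : ∀ z', ∃ a : F, Nn g z' = a • Nn g z
    · exfalso
      have h8 : finrank F (V8 F) = 8 := by
        rw [Module.finrank_pi, Fintype.card_sum, Fintype.card_fin]
      have h1 := LinearMap.finrank_range_add_finrank_ker (Nn g)
      have h2 : finrank F (LinearMap.range (Nn g)) ≤ 1 := by
        have h3 : LinearMap.range (Nn g) ≤ Submodule.span F {Nn g z} := by
          rintro _ ⟨z', rfl⟩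
          obtain ⟨a, ha⟩ := hrk z'
          rw [ha]
          exact Submodule.smul_mem _ _ (Submodule.mem_span_singleton_self _)
        exact (Submodule.finrank_mono h3).trans (fin_span_le _)
      have h4 : LinearMap.ker (Nn g) ≤ Submodule.span F {tw φ (Nn g z) (Nn g z)} := by
        intro x hx
        have hx' : g x = x := sub_eq_zero.1 hx
        obtain ⟨c, hc⟩ := hrk (tw φ x z)
        have e1 : Nn g (tw φ x z) = tw φ x (Nn g z) := by
          rw [Nn_apply, k.mul, hx', Nn_apply, tw_sub_right h]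
        rw [e1] at hc
        have e2 := tw_tw' h (Nn g z) x
        rw [hc, tw_smul_right h] at e2
        have hne : φ (φ (plusForm 4 F (Nn g z))) ≠ 0 := by
          intro h0
          exact hQ ((map_eq_zero φ).1 ((map_eq_zero φ).1 h0))
        have e3 : x = ((φ (φ (plusForm 4 F (Nn g z))))⁻¹ * φ c) • tw φ (Nn g z) (Nn g z) := by
          rw [mul_smul, e2, smul_smul, inv_mul_cancel₀ hne, one_smul]
        rw [e3]
        exact Submodule.smul_mem _ _ (Submodule.mem_span_singleton_self _)
      have h5 := (Submodule.finrank_mono h4).trans (fin_span_le _)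
      omega
    · push Not at hrk
      obtain ⟨z', hz'⟩ := hrk
      obtain ⟨a, ha⟩ : ∃ a : F, a ^ 2 = - (plusForm 4 F (Nn g z') / plusForm 4 F (Nn g z)) := by
        have hs : Function.Surjective (frobenius F 2) := by
          have := Fintype.ofFinite F
          exact ((Fintype.bijective_iff_injective_and_card _).2 ⟨frobenius_inj F 2, rfl⟩).2
        exact hs _
      have e1 : Nn g (z' + a • z) = Nn g z' + a • Nn g z := by rw [map_add, map_smul]
      refine k.exists_e_of h (v := Nn g (z' + a • z)) (z := z' + a • z) ?_ ?_ (hNN _) rfl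
      · intro h0
        apply hz' (-a)
        rw [e1] at h0
        rw [neg_smul]
        exact eq_neg_of_add_eq_zero_left h0
      · rw [e1, norm_add, QuadraticMap.map_smul, polar_smul_right, k.orth (hNN z'), smul_zero, add_zero,
          smul_eq_mul, ← pow_two, ha]
        field_simp
        ring
  · -- odd characteristic
    have h2 : (2 : F) ≠ 0 := by
      intro h0
      have : p ∣ 2 := (CharP.cast_eq_zero_iff F p 2).1 (by exact_mod_cast h0)
      exact hp2 ((Nat.prime_dvd_prime_iff_eq hp.out Nat.prime_two).1 this)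
    obtain ⟨z, hz⟩ : ∃ z, Nn g z ≠ 0 := by
      by_contra hcon
      push Not at hcon
      exact hN0 (LinearMap.ext hcon)
    classical
    have hex : ∃ n, (Nn g ^ n) z = 0 := ⟨p, by rw [hNp]; rfl⟩
    have hm := Nat.find_spec hex
    have hm2 : 2 ≤ Nat.find hex := by
      by_contra hlt
      push Not at hlt
      have : Nat.find hex = 0 ∨ Nat.find hex = 1 := by omega
      rcases this with h0 | h0
      · rw [h0] at hm
        apply hz
        have : z = 0 := hm
        rw [this, map_zero]
      · rw [h0, pow_one] at hm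
        exact hz hm
    obtain ⟨m, hm3⟩ : ∃ m, Nat.find hex = m + 2 := ⟨Nat.find hex - 2, by omega⟩
    have hne : (Nn g ^ (m + 1)) z ≠ 0 := Nat.find_min hex (by omega)
    rw [hm3] at hm
    have hv : (Nn g ^ (m + 1)) z = Nn g ((Nn g ^ m) z) := by rw [pow_succ']; rfl
    rw [hv] at hne
    have hfix : g (Nn g ((Nn g ^ m) z)) = Nn g ((Nn g ^ m) z) := by
      have : Nn g (Nn g ((Nn g ^ m) z)) = 0 := by
        rw [← hm, pow_succ', pow_succ']; rfl
      exact sub_eq_zero.1 this
    refine k.exists_e_of h hne ?_ hfix rfl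
    have h3 := k.orth (z := (Nn g ^ m) z) hfix
    rw [QuadraticMap.polar_self, two_smul] at h3
    have h4 : (2 : F) * plusForm 4 F (Nn g ((Nn g ^ m) z)) = 0 := by rw [two_mul]; exact h3
    exact (mul_eq_zero.1 h4).resolve_left h2

/-- **a unipotent automorphism fixes a vector of `Π / F e`** -/
theorem Au3.exists_y {p : ℕ} [hp : Fact p.Prime] [CharP F p] (hg : g ^ p = 1) {e : V8 F} (he : e ≠ 0)
    (hee : tw φ e e = 0) (hge : g e = e) : ∃ y, InP φ e y ∧ (∀ t : F, y ≠ t • e) ∧ ∃ t : F, g y = y + t • e := by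
  have hNp := Nn_pow (g := g) (p := p) hg
  obtain ⟨y, hy, hyn⟩ := exists_inP h he hee
  classical
  have hex : ∃ n, ∃ t : F, (Nn g ^ n) y = t • e := ⟨p, 0, by rw [hNp, zero_smul]; rfl⟩
  obtain ⟨t, ht⟩ := Nat.find_spec hex
  have hm1 : 1 ≤ Nat.find hex := by
    by_contra hlt
    push Not at hlt
    have h0 : Nat.find hex = 0 := by omega
    rw [h0] at ht
    exact hyn t ht
  obtain ⟨m, hm⟩ : ∃ m, Nat.find hex = m + 1 := ⟨Nat.find hex - 1, by omega⟩
  have hne := Nat.find_min hex (m := m) (by omega)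
  rw [hm] at ht
  have hin : ∀ n, InP φ e ((Nn g ^ n) y) := by
    intro n
    induction n with
    | zero => exact hy
    | succ n ih =>
      have e1 : (Nn g ^ (n + 1)) y = g ((Nn g ^ n) y) + (-1 : F) • (Nn g ^ n) y := by
        rw [pow_succ', Module.End.mul_apply, Nn_apply, neg_one_smul, sub_eq_add_neg]
      rw [e1]
      refine InP.add h ⟨?_, ?_⟩ (ih.smul h _)
      · have := k.mul e ((Nn g ^ n) y)
        rw [ih.left, map_zero, hge] at this
        exact this.symm
      · have := k.mul ((Nn g ^ n) y) e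
        rw [ih.right, map_zero, hge] at this
        exact this.symm
  refine ⟨(Nn g ^ m) y, hin m, fun t ht => hne ⟨t, ht⟩, t, ?_⟩
  have h5 : Nn g ((Nn g ^ m) y) = t • e := by rw [← ht, pow_succ']; rfl
  rw [← h5, Nn_apply]; abel

end

end Cfsg.Agent.H195.RC
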